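import Groth.Agent.Deform.TorsionOrderScheme
import Groth.Agent.Deform.MultHopf
import Groth.Agent.FibDim.BaseField
import Groth.Agent.VarDim.Basic
import Mathlib.GroupTheory.IndexNSmul
import Mathlib.RingTheory.AlgebraicIndependent.Transcendental
import Mathlib.RingTheory.AlgebraicIndependent.TranscendenceBasis

/-!
# The order of the torsion subgroups of a torus

A split torus of rank `r` has dimension `r`, and its `n`-torsion subgroup has order `n ^ r`.
-/

set_option autoImplicit false
set_option linter.style.haveILetI false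

universe u

open CategoryTheory CategoryTheory.Limits MonoidalCategory CartesianMonoidalCategory MonObj AlgebraicGeometry

attribute [local instance] CategoryTheory.Hom.monoid CategoryTheory.Hom.group

namespace Groth.Agent.Deform.TorsDeg

open GrpSchLib.AffineHopf (sp spIso nonempty_DS_iso)
open TorsionOrderScheme

noncomputable section

variable {k : Type u} [Field k]

/-- The exponents with nonnegative entries. -/
def natToInt (r : ℕ) : Multiplicative (Fin r →₀ ℕ) →* Multiplicative (Fin r → ℤ) :=
  AddMonoidHom.toMultiplicative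
    { toFun := fun d i => (d i : ℤ)
      map_zero' := by funext i; simp
      map_add' := fun a b => by funext i; simp }

theorem natToInt_injective (r : ℕ) : Function.Injective (natToInt r) := fun a b h => by
  have h' := congrArg Multiplicative.toAdd h
  refine Multiplicative.toAdd.injective (Finsupp.ext fun i => ?_)
  have h'' : ((Multiplicative.toAdd a i : ℕ) : ℤ) = ((Multiplicative.toAdd b i : ℕ) : ℤ) := congrFun h' i
  exact_mod_cast h''

/-- The coordinate ring of the split torus of rank `r` has dimension `r`. -/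
theorem ringKrullDim_laurent (r : ℕ) :
    ringKrullDim (MonoidAlgebra k (Multiplicative (Fin r → ℤ))) = r := by
  let A := MonoidAlgebra k (Multiplicative (Fin r → ℤ))
  let e : MvPolynomial (Fin r) k ≃ₐ[k] MonoidAlgebra k (Multiplicative (Fin r →₀ ℕ)) :=
    (AddMonoidAlgebra.toMultiplicativeAlgEquiv k k (Fin r →₀ ℕ))
  let φ : MvPolynomial (Fin r) k →ₐ[k] A :=
    (MonoidAlgebra.mapDomainAlgHom k k (natToInt r)).comp e.toAlgHom
  have hφ : Function.Injective φ :=
    (MonoidAlgebra.mapDomain_injective (natToInt_injective r)).comp e.injective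
  haveI : AddGroup.FG (Fin r → ℤ) := Module.Finite.iff_addGroup_fg.mp inferInstance
  haveI : Algebra.FiniteType k A := inferInstance
  haveI : IsDomain A := inferInstance
  letI : Algebra (MvPolynomial (Fin r) k) A := φ.toRingHom.toAlgebra
  haveI : IsScalarTower k (MvPolynomial (Fin r) k) A := IsScalarTower.of_algebraMap_eq fun c => (φ.commutes c).symm
  haveI : FaithfulSMul (MvPolynomial (Fin r) k) A := (faithfulSMul_iff_algebraMap_injective _ _).2 hφ
  haveI : Algebra.IsAlgebraic (MvPolynomial (Fin r) k) A := by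
    have hmono : ∀ d : Fin r →₀ ℕ, φ (e.symm (MonoidAlgebra.single (Multiplicative.ofAdd d) 1)) =
        MonoidAlgebra.single (natToInt r (Multiplicative.ofAdd d)) 1 := fun d => by
      simp [φ]
    have key : ∀ a : A, ∃ d : Fin r →₀ ℕ,
        a * MonoidAlgebra.single (natToInt r (Multiplicative.ofAdd d)) 1 ∈ Set.range φ := by
      intro a
      induction a using MonoidAlgebra.induction_linear with
      | zero => exact ⟨0, 0, by simp⟩
      | add a b ha hb =>
        obtain ⟨d₁, p₁, h₁⟩ := ha
        obtain ⟨d₂, p₂, h₂⟩ := hb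
        refine ⟨d₁ + d₂, p₁ * e.symm (MonoidAlgebra.single (Multiplicative.ofAdd d₂) 1) +
          p₂ * e.symm (MonoidAlgebra.single (Multiplicative.ofAdd d₁) 1), ?_⟩
        rw [map_add, map_mul, map_mul, h₁, h₂, hmono, hmono, ofAdd_add, map_mul, add_mul,
          _root_.mul_assoc, _root_.mul_assoc, MonoidAlgebra.single_mul_single, MonoidAlgebra.single_mul_single, _root_.one_mul,
          _root_.mul_comm (natToInt r (Multiplicative.ofAdd d₂))]
      | single m c =>
        let d : Fin r →₀ ℕ := Finsupp.equivFunOnFinite.symm fun i => (Multiplicative.toAdd m i).natAbs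
        let d' : Fin r →₀ ℕ := Finsupp.equivFunOnFinite.symm fun i =>
          (Multiplicative.toAdd m i + (Multiplicative.toAdd m i).natAbs).toNat
        refine ⟨d, e.symm (MonoidAlgebra.single (Multiplicative.ofAdd d') c), ?_⟩
        simp only [φ, AlgHom.comp_apply, AlgEquiv.coe_toAlgHom, AlgEquiv.apply_symm_apply,
          MonoidAlgebra.mapDomainAlgHom_apply, MonoidAlgebra.mapDomain_single]
        rw [MonoidAlgebra.single_mul_single, _root_.mul_one]
        congr 1
        refine Multiplicative.toAdd.injective (funext fun i => ?_)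
        show ((d' i : ℕ) : ℤ) = Multiplicative.toAdd m i + (d i : ℤ)
        simp only [d, d', Finsupp.equivFunOnFinite_symm_apply_apply]
        omega
    refine ⟨fun a => ?_⟩
    obtain ⟨d, p, hp⟩ := key a
    let q := e.symm (MonoidAlgebra.single (Multiplicative.ofAdd d) 1)
    have hq : q ≠ 0 := fun h => by
      have := congrArg e h
      simp [q] at this
    refine ⟨Polynomial.C q * Polynomial.X - Polynomial.C p, fun h => hq ?_, ?_⟩
    · simpa using congrArg (fun f => Polynomial.coeff f 1) h
    · simp only [map_sub, map_mul, Polynomial.aeval_C, Polynomial.aeval_X]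
      rw [show algebraMap (MvPolynomial (Fin r) k) A q = φ q from rfl,
        show algebraMap (MvPolynomial (Fin r) k) A p = φ p from rfl, hmono, hp, mul_comm, sub_self]
  obtain ⟨n, hn, ht⟩ := VarDim.exists_dim_eq_trdeg (k := k) A
  have h := lift_trdeg_add_eq k (MvPolynomial (Fin r) k) A
  rw [trdeg_eq_zero (R := MvPolynomial (Fin r) k), Cardinal.lift_zero, add_zero, MvPolynomial.trdeg_of_isDomain, ht] at h
  have hrn : r = n := by simpa using h
  rw [hn, hrn]

/-- The torsion subgroups of a torus are finite of order `n ^ dim`. -/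
theorem finrank_kerHom {T : Over (Spec (CommRingCat.of k))} [GrpObj T] [LocallyOfFiniteType T.hom] (hT : Red.IsTorus T)
    (t : ℕ) (ht : topologicalKrullDim T.left = t) {n : ℕ} (hn : 0 < n) [IsFinite (kerHom n T)] [Flat (kerHom n T)]
    (s : ↥(Spec (CommRingCat.of k))) : (kerHom n T).finrank s = n ^ t := by
  let K := AlgebraicClosure k
  let g : Spec (CommRingCat.of K) ⟶ Spec (CommRingCat.of k) := Spec.map (CommRingCat.ofHom (algebraMap k K))
  obtain ⟨r, ⟨e⟩⟩ := Deform.exists_split (Red.bc g T) (Deform.isTorus_bc g hT)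
  obtain ⟨a⟩ := nonempty_DS_iso K (Fin r → ℤ)
  let A := MonoidAlgebra K (ULift.{u} (Multiplicative (Fin r → ℤ)))
  let e' : Grp.mk (sp K A) ≅ Grp.mk (Red.bc g T) :=
    spIso (uliftEquiv K (Multiplicative (Fin r → ℤ))) ≪≫ a ≪≫ e.symm
  -- the dimension
  have hr : r = t := by
    haveI : IsIso e'.hom.hom.hom.left := ((Grp.forget _ ⋙ Over.forget _).mapIso e').isIso_hom
    haveI : LocallyOfFiniteType (pullback.snd T.hom g) := inferInstance
    have h1 := FibDim.topologicalKrullDim_baseChange (IsPullback.of_hasPullback T.hom g)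
    have hh : topologicalKrullDim (sp K A).left = topologicalKrullDim ↥(pullback T.hom g) :=
      e'.hom.hom.hom.left.homeomorph.isHomeomorph.topologicalKrullDim_eq
    rw [ht, ← hh] at h1
    have h2 : topologicalKrullDim (PrimeSpectrum A) = (t : WithBot ℕ∞) := h1
    rw [PrimeSpectrum.topologicalKrullDim_eq_ringKrullDim,
      ringKrullDim_eq_of_ringEquiv (uliftEquiv K (Multiplicative (Fin r → ℤ))).symm.toAlgEquiv.toRingEquiv,
      ringKrullDim_laurent r] at h2
    exact_mod_cast h2
  subst hr
  -- the kernel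
  obtain ⟨φ₁, hφ₁, h₁⟩ := exists_bc_ker g T n
  obtain ⟨φ₂, hφ₂, h₂⟩ := exists_iso_ker e' n
  obtain ⟨φ₃, hφ₃, h₃⟩ := exists_sp_ker (R := K) (A := A) n
  haveI : Group.FG (ULift.{u} (Multiplicative (Fin r → ℤ))) := by
    haveI : AddGroup.FG (Fin r → ℤ) := Module.Finite.iff_addGroup_fg.mp inferInstance
    exact Group.fg_of_surjective (f := (MulEquiv.ulift (α := Multiplicative (Fin r → ℤ))).symm.toMonoidHom)
      (MulEquiv.surjective _)
  obtain ⟨hfin, -, hcard⟩ := Deform.TorsionOrder.finrank_of_diag (A := A) (BialgEquiv.refl K A) hn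
  haveI := hfin
  let ψ : pullback (kerHom n T) g ⟶ Spec (CommRingCat.of (A ⧸ SGA3b.torsionIdeal K A n)) := φ₁ ≫ inv φ₂ ≫ inv φ₃
  have hψ : ψ ≫ Spec.map (CommRingCat.ofHom (algebraMap K (A ⧸ SGA3b.torsionIdeal K A n))) = pullback.snd (kerHom n T) g := by
    simp only [ψ, Category.assoc]
    rw [← h₃, IsIso.inv_hom_id_assoc, ← h₂, IsIso.inv_hom_id_assoc, h₁]
  have h4 := finrank_of_iso (pullback.snd (kerHom n T) g) _ ψ hψ (IsLocalRing.closedPoint K)
  rw [Scheme.Hom.finrank_pullback_snd] at h4
  rw [Subsingleton.elim (α := PrimeSpectrum k) s (g (IsLocalRing.closedPoint K)), h4, hcard]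
  have h5 : Nat.card (ULift.{u} (Multiplicative (Fin r → ℤ)) ⧸
      (powMonoidHom n : ULift.{u} (Multiplicative (Fin r → ℤ)) →* _).range) =
      (powMonoidHom n : Multiplicative (Fin r → ℤ) →* _).range.index := by
    rw [← Subgroup.index_eq_card, ← Subgroup.index_map_equiv _ (MulEquiv.ulift (α := Multiplicative (Fin r → ℤ)))]
    congr 1
    ext x
    constructor
    · rintro ⟨_, ⟨y, rfl⟩, rfl⟩
      exact ⟨y.down, rfl⟩
    · rintro ⟨y, rfl⟩
      exact ⟨_, ⟨⟨y⟩, rfl⟩, rfl⟩
  rw [h5, show (powMonoidHom n : Multiplicative (Fin r → ℤ) →* _).range.index =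
      (nsmulAddMonoidHom (α := Fin r → ℤ) n).range.index from rfl, AddSubgroup.index_range_nsmul, Module.finrank_pi]
  simp

end

end Groth.Agent.Deform.TorsDeg
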