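import Groth.Agent.Deform.TorsDeg.Torus
import Groth.Agent.Deform.PowTorus
import Groth.Agent.Deform.FinSeq
import Groth.Agent.Deform.AVFactor
import Groth.Agent.AVDegLib.MulN
import Groth.Agent.IsogLib.Kernel
import Groth.Agent.FpqcDescLib.Closed
import Mathlib.AlgebraicGeometry.Morphisms.FlatDescent

/-!
# The order of the torsion of an extension of an abelian variety by a torus
-/

set_option autoImplicit false
set_option linter.style.haveILetI false
set_option maxHeartbeats 1000000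

universe u

open CategoryTheory CategoryTheory.Limits MonoidalCategory CartesianMonoidalCategory MonObj AlgebraicGeometry

attribute [local instance] CategoryTheory.Hom.monoid CategoryTheory.Hom.group CategoryTheory.Hom.commMonoid

namespace Groth.Agent.Deform.TorsDeg

open FpqcDescLib (Covers)
open TorsionOrderScheme (kerHom pow_comm)
open Extension (pow_comp_hom covers_of_fpqc)

variable {k : Type u} [Field k]

theorem flat_field {X : Scheme.{u}} (f : X ⟶ Spec (CommRingCat.of k)) : Flat f := inferInstance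

/-- Ranks multiply along a finite flat morphism of finite schemes over a field. -/
theorem finrank_comp {X Y : Scheme.{u}} (f : X ⟶ Y) (g : Y ⟶ Spec (CommRingCat.of k)) [IsFinite f] [Flat f]
    [IsFinite g] (n d : ℕ) (hn : ∀ y, f.finrank y = n) (hd : ∀ s, g.finrank s = d) (s : ↥(Spec (CommRingCat.of k))) :
    (f ≫ g).finrank s = n * d := by
  haveI : IsAffine Y := isAffine_of_isAffineHom g
  haveI : IsAffine X := isAffine_of_isAffineHom f
  haveI := flat_field g
  haveI := flat_field (f ≫ g)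
  obtain ⟨b, hb⟩ := Spec.map_surjective (Y.isoSpec.inv ≫ g)
  obtain ⟨q, hq⟩ := Spec.map_surjective (X.isoSpec.inv ≫ f ≫ Y.isoSpec.hom)
  haveI : IsFinite (Spec.map b) := by rw [hb]; infer_instance
  haveI : IsFinite (Spec.map q) := by rw [hq]; infer_instance
  haveI : Flat (Spec.map q) := by rw [hq]; infer_instance
  letI : Algebra k Γ(Y, ⊤) := b.hom.toAlgebra
  letI : Algebra k Γ(X, ⊤) := (b ≫ q).hom.toAlgebra
  letI : Algebra Γ(Y, ⊤) Γ(X, ⊤) := q.hom.toAlgebra
  haveI : IsScalarTower k Γ(Y, ⊤) Γ(X, ⊤) := IsScalarTower.of_algebraMap_eq fun r => rfl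
  haveI : Module.Finite k Γ(Y, ⊤) := (IsFinite.SpecMap_iff b).1 inferInstance
  haveI : Module.Finite Γ(Y, ⊤) Γ(X, ⊤) := (IsFinite.SpecMap_iff q).1 inferInstance
  haveI : Module.Finite k Γ(X, ⊤) := Module.Finite.trans Γ(Y, ⊤) Γ(X, ⊤)
  haveI : Module.Flat Γ(Y, ⊤) Γ(X, ⊤) :=
    (HasRingHomProperty.Spec_iff (P := @Flat)).1 (inferInstanceAs (Flat (Spec.map q)))
  haveI : IsArtinianRing Γ(Y, ⊤) := isArtinian_of_tower k inferInstance
  haveI : Finite (MaximalSpectrum Γ(Y, ⊤)) := inferInstance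
  have hA : ∀ p : PrimeSpectrum Γ(Y, ⊤), Module.rankAtStalk Γ(X, ⊤) p = n := fun p => by
    rw [← Scheme.Hom.finrank_SpecMap_algebraMap Γ(Y, ⊤) Γ(X, ⊤) p]
    obtain ⟨y, hy⟩ := Y.isoSpec.hom.surjective p
    show (Spec.map q).finrank p = n
    rw [hq, Scheme.Hom.finrank_comp_left_of_isIso, ← hy]
    exact (FinSeq.finrank_comp_right_iso _ _ _).trans (hn _)
  obtain ⟨e⟩ := Module.nonempty_basis_of_flat_of_finrank_eq Γ(Y, ⊤) Γ(X, ⊤) n fun P => by
    letI := Ideal.Quotient.field P.1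
    have h1 := Module.rankAtStalk_baseChange (R := Γ(Y, ⊤)) (M := Γ(X, ⊤)) (S := Γ(Y, ⊤) ⧸ P.1) ⟨⊥, Ideal.isPrime_bot⟩
    rw [hA, Module.rankAtStalk_eq_finrank_of_free] at h1
    exact h1
  have h2 : Module.finrank k Γ(X, ⊤) = n * Module.finrank k Γ(Y, ⊤) := by
    rw [(e.equivFun.restrictScalars k).finrank_eq, Module.finrank_pi_fintype, Finset.sum_const, Finset.card_fin,
      smul_eq_mul]
  have e1 : Spec.map (b ≫ q) = X.isoSpec.inv ≫ f ≫ g := by
    rw [Spec.map_comp, hb, hq]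
    simp only [Category.assoc, Iso.hom_inv_id_assoc]
  have h3 : (Spec.map b).finrank s = Module.finrank k Γ(Y, ⊤) := FinSeq.finrank_eq_dim s
  have h4 : (Spec.map (b ≫ q)).finrank s = Module.finrank k Γ(X, ⊤) := FinSeq.finrank_eq_dim s
  rw [hb, Scheme.Hom.finrank_comp_left_of_isIso, hd] at h3
  rw [e1, Scheme.Hom.finrank_comp_left_of_isIso] at h4
  rw [h4, h2, ← h3]

/-- The kernel of a power map of a group, as an object over the base. -/
theorem exists_kerHom_isPullback (n : ℕ) (G : Over (Spec (CommRingCat.of k))) [GrpObj G] :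
    ∃ j : Over.mk (kerHom n G) ⟶ G, IsPullback j (toUnit (Over.mk (kerHom n G))) (𝟙 G ^ n : G ⟶ G) η[G] := by
  let K : Over (Spec (CommRingCat.of k)) := Over.mk (kerHom n G)
  have hfst : pullback.fst η[G].left (𝟙 G ^ n : G ⟶ G).left ≫ (𝟙_ (Over (Spec (CommRingCat.of k)))).hom = kerHom n G := by
    rw [← Over.w η[G], pullback.condition_assoc, Over.w]
  let a : K ⟶ 𝟙_ _ := Over.homMk (pullback.fst _ _) hfst
  let j : K ⟶ G := Over.homMk (pullback.snd _ _) rfl
  refine ⟨j, ?_⟩
  have sq : IsPullback a j η[G] (𝟙 G ^ n : G ⟶ G) :=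
    IsPullback.of_map (Over.forget _) (Over.OverMorphism.ext pullback.condition) (.of_hasPullback _ _)
  rw [toUnit_unique (toUnit (Over.mk (kerHom n G))) a]
  exact sq.flip

theorem toUnit_eta {S : Scheme.{u}} (X : Over S) (G : Over S) [GrpObj G] : toUnit X ≫ η[G] = 1 := Hom.one_def.symm

theorem mono_of_sq {S : Scheme.{u}} {X G : Over S} [GrpObj G] {n : ℕ} {j : X ⟶ G}
    (sq : IsPullback j (toUnit X) (𝟙 G ^ n : G ⟶ G) η[G]) : Mono j :=
  ⟨fun _ _ w => sq.hom_ext w (toUnit_unique _ _)⟩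

theorem pow_of_sq {S : Scheme.{u}} {X G : Over S} [GrpObj G] {n : ℕ} {j : X ⟶ G}
    (sq : IsPullback j (toUnit X) (𝟙 G ^ n : G ⟶ G) η[G]) : j ^ n = 1 := by
  have h := sq.w
  rwa [MonObj.comp_pow, Category.comp_id, toUnit_eta] at h

theorem isFinite_kerHom (n : ℕ) (G : Over (Spec (CommRingCat.of k))) [GrpObj G] [IsFinite (𝟙 G ^ n : G ⟶ G).left] :
    IsFinite (kerHom n G) := by
  have hfst : pullback.fst η[G].left (𝟙 G ^ n : G ⟶ G).left ≫ (𝟙_ (Over (Spec (CommRingCat.of k)))).hom = kerHom n G := by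
    rw [← Over.w η[G], pullback.condition_assoc, Over.w]
  haveI : IsFinite (𝟙_ (Over (Spec (CommRingCat.of k)))).hom :=
    inferInstanceAs (IsFinite (𝟙 (Spec (CommRingCat.of k))))
  rw [← hfst]
  infer_instance

/-- The torsion of an abelian variety. -/
theorem finrank_kerHom_av {B : Over (Spec (CommRingCat.of k))} [GrpObj B] [IsProper B.hom] [GeometricallyIntegral B.hom]
    {a : ℕ} (ha : topologicalKrullDim B.left = a) {N : ℕ} (hN : 0 < N) (s : ↥(Spec (CommRingCat.of k))) :
    (kerHom N B).finrank s = N ^ (2 * a) := by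
  have hfst : pullback.fst η[B].left (𝟙 B ^ N : B ⟶ B).left ≫ (𝟙_ (Over (Spec (CommRingCat.of k)))).hom = kerHom N B := by
    rw [← Over.w η[B], pullback.condition_assoc, Over.w]
  haveI := AVMulN.isFinite_pow (A := B) N hN
  haveI := AVDegLib.flat_pow (A := B) N hN
  have h := AVDegLib.finrank_zpow ha (N : ℤ) (by omega) (η[B].left s)
  rw [zpow_natCast, Int.natAbs_natCast] at h
  rw [← h, ← Scheme.Hom.finrank_pullback_fst (𝟙 B ^ N : B ⟶ B).left η[B].left s, ← hfst]
  exact congrArg (fun f => Scheme.Hom.finrank f s) (Category.comp_id _)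

/-- The torsion of an extension of an abelian variety by a torus. -/
theorem isFinLocFreeOfDeg_torsion
    (G T B : Over (Spec (CommRingCat.of k))) [GrpObj G] [IsCommMonObj G] [GrpObj T] [GrpObj B]
    [Smooth G.hom] [QuasiCompact G.hom]
    (i : T ⟶ G) [IsMonHom i] [IsClosedImmersion i.left] (hT : Red.IsTorus T)
    (q : G ⟶ B) [IsMonHom q] [Surjective q.left] [Flat q.left] (hk : AlgGrp.IsKernel i q)
    [IsProper B.hom] [Smooth B.hom] [ConnectedSpace ↥B.left]
    (t a : ℕ) (ht : topologicalKrullDim ↥T.left = t) (ha : topologicalKrullDim ↥B.left = a)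
    (N : ℕ) (hN : 0 < N)
    (K : Over (Spec (CommRingCat.of k))) [GrpObj K] (κ : K ⟶ G) [IsMonHom κ]
    (hK : AlgGrp.IsKernel κ ((𝟙 G) ^ N)) :
    Mor2.IsFinLocFreeOfDeg (N ^ (t + 2 * a)) K.hom := by
  haveI : GeometricallyIntegral B.hom := AVFactor.geometricallyIntegral_smooth B
  haveI : IsCommMonObj B := isCommMonObj_of_isProper_of_geometricallyIntegral B
  haveI : IsFinite (𝟙 B ^ N : B ⟶ B).left := AVMulN.isFinite_pow (A := B) N hN
  haveI : IsMonHom (𝟙 B ^ N : B ⟶ B) := AVDegLib.isMonHom_pow N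
  haveI : LocallyOfFiniteType T.hom := by rw [← Over.w i]; infer_instance
  haveI : QuasiCompact (q.left ≫ B.hom) := by rw [Over.w q]; infer_instance
  haveI : QuasiCompact q.left := QuasiCompact.of_comp q.left B.hom
  haveI : Mono i := (Over.forget _).mono_of_mono_map (inferInstanceAs (Mono i.left))
  have hTpow : IsFinite (𝟙 T ^ N : T ⟶ T).left :=
    Extension.isFinite_pow_multType N hN (Deform.isMultTypeFT_of_isTorus hT)
  haveI := hTpow
  obtain ⟨hTflat, hTsurj⟩ := PowTorus.flat_surjective_pow hT hN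
  haveI := hTflat
  haveI := hTsurj
  haveI hGfin : IsFinite (𝟙 G ^ N : G ⟶ G).left :=
    Extension.isFinite_pow hk (covers_of_fpqc q) N hTpow inferInstance
  have hK' : IsPullback κ (toUnit K) (𝟙 G ^ N : G ⟶ G) η[G] := hK
  haveI : IsFinite (toUnit K).left := MorphismProperty.of_isPullback (hK'.map (Over.forget _)) hGfin
  haveI : IsFinite K.hom := by
    haveI : IsFinite (𝟙_ (Over (Spec (CommRingCat.of k)))).hom :=
      inferInstanceAs (IsFinite (𝟙 (Spec (CommRingCat.of k))))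
    rw [← Over.w (toUnit K)]
    infer_instance
  haveI : Mono κ := mono_of_sq hK'
  have hκN : (κ : K ⟶ G) ^ N = 1 := pow_of_sq hK'
  -- the torsion of `B`
  obtain ⟨b, hb⟩ := exists_kerHom_isPullback N B
  let KB : Over (Spec (CommRingCat.of k)) := Over.mk (kerHom N B)
  haveI : IsFinite KB.hom := isFinite_kerHom N B
  haveI : Mono b := mono_of_sq hb
  obtain ⟨gB, hbm⟩ := IsogLib.exists_grpObj_kernel _ hb
  haveI := hbm
  have hbN : (b : KB ⟶ B) ^ N = 1 := pow_of_sq hb
  let π : K ⟶ KB := hb.lift (κ ≫ q) (toUnit _) (by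
    rw [MonObj.comp_pow, Category.comp_id, ← pow_comp_hom q, hκN, MonObj.one_comp, toUnit_eta])
  have hπ : π ≫ b = κ ≫ q := hb.lift_fst _ _ _
  haveI hπm : IsMonHom π := by
    refine { one_hom := ?_, mul_hom := ?_ }
    · rw [← cancel_mono b, Category.assoc, hπ, IsMonHom.one_hom, IsMonHom.one_hom]
    · rw [← cancel_mono b, Category.assoc, hπ, IsMonHom.mul_hom, Category.assoc, IsMonHom.mul_hom]
      simp only [← Category.assoc, tensorHom_comp_tensorHom, hπ]
  haveI : IsFinite (π.left ≫ KB.hom) := by rw [Over.w π]; infer_instance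
  haveI : IsFinite π.left := IsFinite.of_comp π.left KB.hom
  -- the kernel of `π`
  obtain ⟨jT, hjT⟩ := exists_kerHom_isPullback N T
  let KT : Over (Spec (CommRingCat.of k)) := Over.mk (kerHom N T)
  haveI : IsFinite KT.hom := isFinite_kerHom N T
  haveI : Mono jT := mono_of_sq hjT
  have hjN : (jT : KT ⟶ T) ^ N = 1 := pow_of_sq hjT
  let j : KT ⟶ K := hK'.lift (jT ≫ i) (toUnit _) (by
    rw [MonObj.comp_pow, Category.comp_id, ← pow_comp_hom i, hjN, MonObj.one_comp, toUnit_eta])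
  have hj : j ≫ κ = jT ≫ i := hK'.lift_fst _ _ _
  have hsT : ∀ {Z : Over (Spec (CommRingCat.of k))} (s : Z ⟶ K), s ≫ π = 1 →
      ∃ l : Z ⟶ KT, l ≫ j = s := by
    intro Z s hs
    have h1 : (s ≫ κ) ≫ q = 1 := by rw [Category.assoc, ← hπ, ← Category.assoc, hs, MonObj.one_comp]
    let y : Z ⟶ T := hk.lift (s ≫ κ) (toUnit _) (by rw [h1, toUnit_eta])
    have hy : y ≫ i = s ≫ κ := hk.lift_fst _ _ _
    have hyN : y ^ N = 1 := by
      rw [← cancel_mono i, pow_comp_hom, hy, ← MonObj.comp_pow, hκN, MonObj.comp_one, MonObj.one_comp]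
    refine ⟨hjT.lift y (toUnit _) (by
      rw [MonObj.comp_pow, Category.comp_id, hyN, toUnit_eta]), ?_⟩
    rw [← cancel_mono κ, Category.assoc, hj, hjT.lift_fst_assoc, hy]
  have hkπ : IsPullback j (toUnit KT) π η[KB] := by
    have hj1 : j ≫ π = 1 := by
      rw [← cancel_mono b, Category.assoc, hπ, reassoc_of% hj, hk.w, toUnit_eta, MonObj.comp_one, MonObj.one_comp]
    haveI : Mono j := by
      haveI : Mono (j ≫ κ) := by rw [hj]; infer_instance
      exact mono_of_mono j κ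
    have hs1 : ∀ s : PullbackCone π η[KB], s.fst ≫ π = 1 := fun s => by
      rw [s.condition, toUnit_unique s.snd (toUnit _), toUnit_eta]
    refine IsPullback.of_isLimit' ⟨by rw [hj1, toUnit_eta]⟩
      (PullbackCone.IsLimit.mk _ (fun s => (hsT s.fst (hs1 s)).choose) (fun s => (hsT s.fst (hs1 s)).choose_spec)
        (fun s => toUnit_unique _ _) (fun s m h₁ _ => ?_))
    rw [← cancel_mono j, h₁]
    exact (hsT s.fst (hs1 s)).choose_spec.symm
  obtain ⟨gT, hjm⟩ := IsogLib.exists_grpObj_kernel π hkπ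
  -- `π` is a covering
  let W₁ : Over (Spec (CommRingCat.of k)) := pullback q b
  let x : W₁ ⟶ G := pullback.fst q b
  let r₁ : W₁ ⟶ KB := pullback.snd q b
  have hx : x ≫ q = r₁ ≫ b := pullback.condition
  have hc₁ : Covers r₁.left := (covers_of_fpqc q).over_pullback b r₁ x (IsPullback.of_hasPullback q b).flip
  let y : W₁ ⟶ T := hk.lift (x ^ N) (toUnit _) (by
    rw [pow_comp_hom, hx, ← MonObj.comp_pow, hbN, MonObj.comp_one, toUnit_eta])
  have hy : y ≫ i = x ^ N := hk.lift_fst _ _ _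
  let W₂ : Over (Spec (CommRingCat.of k)) := pullback (𝟙 T ^ N : T ⟶ T) y
  let w : W₂ ⟶ T := pullback.fst (𝟙 T ^ N : T ⟶ T) y
  let r₂ : W₂ ⟶ W₁ := pullback.snd (𝟙 T ^ N : T ⟶ T) y
  have hw : w ^ N = r₂ ≫ y := by
    have h : w ≫ (𝟙 T ^ N : T ⟶ T) = r₂ ≫ y := pullback.condition
    rwa [MonObj.comp_pow, Category.comp_id] at h
  have hc₂ : Covers r₂.left :=
    (covers_of_fpqc (𝟙 T ^ N : T ⟶ T)).over_pullback y r₂ w (IsPullback.of_hasPullback _ y).flip
  let z₀ : W₂ ⟶ G := (r₂ ≫ x) * (w ≫ i)⁻¹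
  have hz₀ : z₀ ^ N = 1 := by
    rw [show z₀ = (r₂ ≫ x) * (w ≫ i)⁻¹ from rfl, mul_pow, inv_pow, ← MonObj.comp_pow, ← pow_comp_hom, hw,
      Category.assoc, hy, mul_inv_cancel]
  let z : W₂ ⟶ K := hK'.lift z₀ (toUnit _) (by
    rw [MonObj.comp_pow, Category.comp_id, hz₀, toUnit_eta])
  have hz : z ≫ π = r₂ ≫ r₁ := by
    have hwi : (w ≫ i) ≫ q = 1 := Extension.kills hk w
    rw [← cancel_mono b, Category.assoc, hπ, ← Category.assoc, hK'.lift_fst,
      show z₀ = (r₂ ≫ x) * (w ≫ i)⁻¹ from rfl, MonObj.mul_comp, GrpObj.inv_comp, hwi, inv_one, _root_.mul_one,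
      Category.assoc, Category.assoc, hx]
  have hc : Covers (r₂ ≫ r₁).left := hc₂.comp hc₁
  -- `π` is flat and surjective
  haveI := flat_field K.hom
  obtain ⟨C, _, p, i', _, _, hpi, hpf, hps, _, hic⟩ := Groth.Agent.S3034.result k K KB π (flat_field _)
  haveI := hpf; haveI := hps; haveI := hic
  haveI : IsIso i'.left := by
    haveI : IsSplitEpi (pullback.fst (r₂ ≫ r₁).left i'.left) :=
      IsSplitEpi.mk' ⟨pullback.lift (𝟙 _) (z ≫ p).left (by
        rw [Category.id_comp, ← hz, ← hpi]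
        simp only [Over.comp_left, Category.assoc]), pullback.lift_fst _ _ _⟩
    have h1 : IsIso (pullback.fst (r₂ ≫ r₁).left i'.left) := isIso_of_mono_of_isSplitEpi _
    exact hc.descends (MorphismProperty.isomorphisms Scheme) i'.left _ _ (IsPullback.of_hasPullback _ _) h1
  haveI : Flat π.left := by rw [← hpi, Over.comp_left]; infer_instance
  haveI : Surjective π.left := by rw [← hpi, Over.comp_left]; infer_instance
  haveI := flat_field KT.hom
  have hdeg : ∀ y', π.left.finrank y' = N ^ t :=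
    FinSeq.finrank_eq π j hkπ (N ^ t) fun s => by
      haveI : IsFinite (kerHom N T) := isFinite_kerHom N T
      haveI := flat_field (kerHom N T)
      exact finrank_kerHom hT t ht hN s
  haveI : LocallyOfFinitePresentation K.hom := inferInstance
  refine ⟨⟨inferInstance, inferInstance, inferInstance⟩, fun s => ?_⟩
  rw [pow_add]
  conv_lhs => rw [← Over.w π]
  exact finrank_comp π.left KB.hom _ _ hdeg (fun s' => finrank_kerHom_av ha hN s') s

end Groth.Agent.Deform.TorsDeg
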